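import Cfsg.Agent.Lib.Mult.Glue
import Cfsg.Agent.Lib.Grp.TDd.Main

set_option autoImplicit false
set_option maxRecDepth 100000
set_option Elab.async false

namespace Cfsg.Agent.Mult.TDd

open Cfsg.Agent.CG Cfsg.Agent.CG.TDd

noncomputable def p3T : ℕ := 0x400c0100300400c010030000000000012302448c0900300c00000000000000008da03000803000000000000000000000000100c000000000000000000000000000
noncomputable def p3q1 : ℕ := 0x100003000080001000100003000080001
noncomputable def p3q2 : ℕ := 0x90000391b4a46c900010011b024440909
noncomputable def p3NF : ℕ := 0x2000000001000000000000000000000000000000000000000000000000000000000000000000000000000000000000000000000000000000000000000000000000000000000000001000000000000040000000000000000000000000000000000000001008000000000000001000000000000000000000000000000000000000000000000000000008000000000000001000000000000000000000000000000000000000000000000000000000000000000000200000000000000000000000000000000000000000000000000000000000000000000000000000000000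
noncomputable def p3gv : ℕ := 0x200000000202000000000000000000008000000000000001
noncomputable def p3av : ℕ := 0x400000000000010000002000000000000000000000000000000000000000000000
noncomputable def p3mu : ℕ := 0x202000002001000000080000000000008000000000000
noncomputable def p3om : ℕ := 0x0
noncomputable def p3tm : ℕ := 0xe94a5294a40090729092894a4734a529165294a52
noncomputable def p3par : ℕ := 0x45030b192
noncomputable def p3z : Desc := ⟨0,0,0,0,[],[]⟩
noncomputable def p3ds : Tr Desc := (.node (.node (.node (.node (.node (.node (.leaf p3z) (.leaf ⟨2,1,0,0,[2,0],[0,2,3,3]⟩)) (.leaf ⟨0,4,0,0,[],[]⟩)) (.node (.leaf p3z) (.leaf ⟨1,0x3,1,1,[],[]⟩))) (.node (.node (.leaf p3z) (.leaf p3z)) (.node (.leaf ⟨0,3,0,0,[],[]⟩) (.leaf p3z)))) (.node (.node (.node (.leaf p3z) (.leaf ⟨0,0,0,0,[],[]⟩)) (.node (.leaf p3z) (.leaf p3z))) (.node (.node (.leaf ⟨0,1,0,0,[],[]⟩) (.leaf ⟨1,0x3,2,1,[],[]⟩)) (.node (.leaf p3z) (.leaf p3z))))) (.node (.node (.node (.node (.leaf p3z) (.leaf ⟨0,5,0,0,[],[]⟩)) (.node (.leaf p3z) (.leaf p3z))) (.node (.node (.leaf p3z)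 (.leaf ⟨1,0x2,1,1,[],[]⟩)) (.node (.leaf p3z) (.leaf p3z)))) (.node (.node (.node (.leaf p3z) (.leaf p3z)) (.node (.leaf ⟨0,2,0,0,[],[]⟩) (.leaf p3z))) (.node (.node (.leaf p3z) (.leaf ⟨1,0x4,2,1,[],[]⟩)) (.node (.leaf p3z) (.leaf p3z))))))
noncomputable def p3rd : Tr Desc := (.node (.node (.leaf ⟨2,0,0,0,[3,0],[0,3]⟩) (.leaf ⟨2,1,0,0,[2,1],[1,2,3,3]⟩)) (.node (.leaf ⟨2,0,0,0,[0,0,0],[]⟩) (.leaf ⟨2,1,0,0,[1,1,1],[]⟩)))
noncomputable def D3 : Dat where
  p := 3
  q := 3
  n1 := 5
  b := 3
  fl := 6
  ew := 22
  T := p3T
  w := 11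
  fuel := 39
  nf := 2
  cm := 4
  q1 := fun x => look 0x3ffff p3q1 (Nat.mul 18 x)
  q2 := fun x => look 0x3ffff p3q2 (Nat.mul 18 x)
  NV := 33
  d := 6
  w2 := 9
  NF := fun x => look 0x3fffffffffffff p3NF (Nat.mul 54 x)
  tm := fun x => look 0x1f p3tm (Nat.mul 5 x)
  TM := 18
  par := fun x => look 0x3f p3par (Nat.mul 6 x)
  ds := fun x => p3ds.get x
  r := 4
  s0 := 0
  gv := fun x => look 0x3fffffffffffff p3gv (Nat.mul 54 x)
  rd := fun x => p3rd.get x
  av := fun x => look 0x3fffffffffffff p3av (Nat.mul 54 x)
  mw := 2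
  mu := fun x => look 0xff p3mu (Nat.mul 8 x)
  ms := []
  om := fun x => look 0xff p3om (Nat.mul 8 x)
noncomputable def p3w1 : List (List ℕ) := [[14,37,22,33,4,38,32,31],
  [4,35,38,2,31,34,36,5],
  [27,35,28,7,31,34,1,38,36],
  [38,34,22,37,39,33,38,36],
  [2,38,28,13,31,39,30,30,37],
  [35,29,29,5,37,31,3,38,37]]
noncomputable def p3w2 : List (List ℕ) := [[1],
  [2],
  [3],
  [4]]
noncomputable def p3L0c : ℕ := 0xb21b0ebd21c2dc56a90b6080f096143984a9491fdf06b6c2c358937d8d25517d9a19fc863a6046d705dd43b2e03568806b30fe2446384792c14c44295e0150f4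
noncomputable def p3L0p : ℕ := 0x4400080000f0001c0003400060000b00014000240004000070000c000140002000030000400004000000005000080000c0001000010000000004000000000
noncomputable def p3L0l : ℕ := 0x80001000020000400008000100002000040000800010000200004000080001000020000400008000100003000060000c0001800030000600010000200000
noncomputable def p3L0q : ℕ := 0x1c000000000000000000000030000000000000000000000100001800000000000000000000000000000000000000000600000000000003400000000200002000000003c00000000000000000000004800000000000048000a8000b00000000000000000110002c00000000000000000000000000000000e0000000034000c80000000000000000000000000000000000000000000000000000000000005000000000000000001300000000000000800000002e0002800000001400000000000000000000000000000000000000000000000000000000000000000000000000000000600000000000008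
noncomputable def p3L1c : ℕ := 0x1acc6ad13b2e0
noncomputable def p3L1p : ℕ := 0x1000000000
noncomputable def p3L1l : ℕ := 0x1000040000
noncomputable def p3L1q : ℕ := 0x40000000000000000000002
noncomputable def p3L : List Lvl := [mkLvl 86260 [4,3,2] 27 19 p3L0c p3L0p p3L0l 101 p3L0q,
  mkLvl 242400 [1] 3 18 p3L1c p3L1p p3L1l 7 p3L1q]

theorem p3c0 : okcb 17199 20 (bases p3L) = true := by decide +kernel
theorem p3c1 : D3.chkNum 0 4 211341312 p3w2 p3L = true := by decide +kernel
theorem p3c2 : headAll (appW (appW app p3w1) p3w2) p3L [] = true := by decide +kernel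
theorem p3c3 : allL (fun l => l.chk (appW (appW app p3w1) p3w2) 1 (l.N - 1)) p3L = true := by decide +kernel
theorem p3c4 : D3.chkPc (appW app p3w1) bs 0 25 = true := by decide +kernel
theorem p3c5 : D3.chkFus (appW app p3w1) bs 0 8 = true := by decide +kernel
theorem p3c6 : D3.chkHead = true := by decide +kernel
theorem p3c7 : D3.chkVars 0 33 = true := by decide +kernel
theorem p3c8 : D3.chkRhos 0 4 = true := by decide +kernel
theorem p3c9 : D3.chkEnts 0 25 = true := by decide +kernel

set_option linter.unusedSectionVars false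

variable [hF : Fact (Bounds tcR tcS 634023936)]
include hF

theorem pb3 : PB PG 3 [] :=
  Dat.pbA (D := D3) base card (by norm_num : Nat.Prime 3) (okc_of_okcb p3c0) p3c1 p3c2 p3c3
    p3c4
    p3c5
    p3c6 p3c7
    p3c8
    p3c9

end Cfsg.Agent.Mult.TDd
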