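import Cfsg.Agent.Lib.Mult.Glue
import Cfsg.Agent.Lib.Grp.TDd.Main

set_option autoImplicit false
set_option maxRecDepth 100000
set_option Elab.async false

namespace Cfsg.Agent.Mult.TDd

open Cfsg.Agent.CG Cfsg.Agent.CG.TDd

noncomputable def p7T : ℕ := 0x802802000000402000000000
noncomputable def p7q1 : ℕ := 0x2000001000002000001
noncomputable def p7q2 : ℕ := 0xaaa500a555aaa5550aaa55
noncomputable def p7NF : ℕ := 0x400000000004000000000000000000000000001000000000000000000000000000000000
noncomputable def p7gv : ℕ := 0x600000c0280000400001800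
noncomputable def p7av : ℕ := 0x0
noncomputable def p7mu : ℕ := 0xf00100000d0000000000
noncomputable def p7om : ℕ := 0x0
noncomputable def p7tm : ℕ := 0x7ffa3f8fff
noncomputable def p7par : ℕ := 0x874
noncomputable def p7z : Desc := ⟨0,0,0,0,[],[]⟩
noncomputable def p7ds : Tr Desc := (.node (.node (.node (.node (.leaf p7z) (.leaf ⟨0,2,0,0,[],[]⟩)) (.node (.leaf ⟨0,0,0,0,[],[]⟩) (.leaf p7z))) (.node (.node (.leaf p7z) (.leaf p7z)) (.leaf p7z))) (.node (.node (.node (.leaf p7z) (.leaf p7z)) (.leaf p7z)) (.node (.node (.leaf p7z) (.leaf p7z)) (.leaf ⟨0,1,0,0,[],[]⟩))))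
noncomputable def p7rd : Tr Desc := (.node (.node (.leaf ⟨2,1,0,0,[1,0],[0,1]⟩) (.leaf ⟨2,0,0,0,[0,0,0,0,0,0,0],[]⟩)) (.leaf ⟨2,1,0,0,[1,1,1,1,1,1,1],[]⟩))
noncomputable def D7 : Dat where
  p := 7
  q := 7
  n1 := 3
  b := 2
  fl := 12
  ew := 12
  T := p7T
  w := 14
  fuel := 81
  nf := 2
  cm := 2
  q1 := fun x => look 0xffffff p7q1 (Nat.mul 24 x)
  q2 := fun x => look 0xffffff p7q2 (Nat.mul 24 x)
  NV := 13
  d := 3
  w2 := 11
  NF := fun x => look 0x1ffffffff p7NF (Nat.mul 33 x)
  tm := fun x => look 0x7 p7tm (Nat.mul 3 x)
  TM := 7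
  par := fun x => look 0xf p7par (Nat.mul 4 x)
  ds := fun x => p7ds.get x
  r := 3
  s0 := 0
  gv := fun x => look 0x1ffffffff p7gv (Nat.mul 33 x)
  rd := fun x => p7rd.get x
  av := fun x => look 0x1ffffffff p7av (Nat.mul 33 x)
  mw := 3
  mu := fun x => look 0x1ff p7mu (Nat.mul 9 x)
  ms := []
  om := fun x => look 0x1ff p7om (Nat.mul 9 x)
noncomputable def p7w1 : List (List ℕ) := [[24,13,26,29,5,38,36,30,3,36],
  [7,22,22,20,35,39,35,3,38,36],
  [2,27,37,21,2,33,37,5,1,38],
  [35,6,29,32,37]]
noncomputable def p7w2 : List (List ℕ) := [[1],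
  [2]]
noncomputable def p7L0c : ℕ := 0x3c3fc6c048a77b0a032510046a83850fa270d801ef0a192880340e5f62cba00c7114faf1dd5812f48a1d88bb67080b648c609be60e43e218d6265342c1c8269d29a2239350540b0271f024a41c41c0df989529136b4369e80ec18ee892194e195a095f6106cb2006c1d6648b3590cde289ce3e800
noncomputable def p7L0p : ℕ := 0x29000500009c001300025000480008c001100021000400007c000f0001d000380006c000d00019000300005c000b00015000280004c000900011000200003c00070000d000180002c000500009000100001c000300005000080000c00010000100000000140002000030000400004000000000
noncomputable def p7L0l : ℕ := 0x1000020000400008000100002000040000800010000200004000080001000020000400008000100002000040000800010000200004000080001000020000400008000100002000040000800010000200004000080001000020000400008000100002000080001000020000400008000100000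
noncomputable def p7L0q : ℕ := 0x1600036000000016800250005600000000d00002000000000000060002f000300004c0014000000000000000000000000000000007c0000000000000000000000c8000000000000c000000000500038000000000000000000000000000000000000000003c00000000000000000b8000000000000000000000050000000022000180000000000000000084000580000000000005c0000000000000000000000000012000000000000000000000000000000000000000000600000000f000000001200000000000000000000002000000000000000000880000000000002000000001180029000000000000000001d0000000000000000000000020009000038000000000000000000000000000000000000000000000080003400000002000000000000000000150000000000000000000000000000000000002a00000000000013000000001c000000000000000004e00050001600000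
noncomputable def p7L : List Lvl := [mkLvl 256000 [2,1] 49 19 p7L0c p7L0p p7L0l 147 p7L0q]

theorem p7c0 : okcb 17199 20 (bases p7L) = true := by decide +kernel
theorem p7c1 : D7.chkNum 0 2 211341312 p7w2 p7L = true := by decide +kernel
theorem p7c2 : headAll (appW (appW app p7w1) p7w2) p7L [] = true := by decide +kernel
theorem p7c3 : allL (fun l => l.chk (appW (appW app p7w1) p7w2) 1 (l.N - 1)) p7L = true := by decide +kernel
theorem p7c4 : D7.chkPc (appW app p7w1) bs 0 9 = true := by decide +kernel
theorem p7c5 : D7.chkFus (appW app p7w1) bs 0 4 = true := by decide +kernel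
theorem p7c6 : D7.chkHead = true := by decide +kernel
theorem p7c7 : D7.chkVars 0 13 = true := by decide +kernel
theorem p7c8 : D7.chkRhos 0 3 = true := by decide +kernel
theorem p7c9 : D7.chkEnts 0 9 = true := by decide +kernel

set_option linter.unusedSectionVars false

variable [hF : Fact (Bounds tcR tcS 634023936)]
include hF

theorem pb7 : PB PG 7 [] :=
  Dat.pbA (D := D7) base card (by norm_num : Nat.Prime 7) (okc_of_okcb p7c0) p7c1 p7c2 p7c3
    p7c4
    p7c5
    p7c6 p7c7
    p7c8
    p7c9

end Cfsg.Agent.Mult.TDd
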